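import Mathlib.Algebra.MvPolynomial.Basic
import Mathlib.Algebra.MvPolynomial.CommRing
import Mathlib.Algebra.Polynomial.AlgebraMap
import Mathlib.Algebra.Polynomial.Monic
import Mathlib.RingTheory.MvPolynomial.Homogeneous
import Mathlib.RingTheory.Localization.FractionRing
import Mathlib.RingTheory.Regular.RegularSequence
import Mathlib.Algebra.Algebra.Pi
import Mathlib.Tactic.LinearCombination

/-! # The ring `ℤ[F, V]/(FV - q, h)` for a symmetrised polynomial -/

set_option autoImplicit false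
set_option linter.style.haveILetI false

universe u

namespace Groth.L14.WeilCI

open MvPolynomial Pointwise

local notation "P₂" => MvPolynomial (Fin 2) ℤ

variable (q : ℤ)

/-- the hyperbola relation -/
noncomputable def rel : P₂ := X 0 * X 1 - C q

/-- evaluation into rational functions -/
noncomputable def phi : P₂ →ₐ[ℤ] FractionRing (Polynomial ℤ) :=
  MvPolynomial.aeval ![algebraMap (Polynomial ℤ) _ Polynomial.X,
    algebraMap (Polynomial ℤ) _ (Polynomial.C q) / algebraMap (Polynomial ℤ) _ Polynomial.X]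

theorem phi_aeval (G : Polynomial ℤ) :
    phi q (Polynomial.aeval (X 0 : P₂) G) = algebraMap (Polynomial ℤ) (FractionRing (Polynomial ℤ)) G := by
  rw [← Polynomial.aeval_algHom_apply, phi, MvPolynomial.aeval_X]
  show Polynomial.aeval (algebraMap (Polynomial ℤ) (FractionRing (Polynomial ℤ)) Polynomial.X) G = _
  rw [show algebraMap (Polynomial ℤ) (FractionRing (Polynomial ℤ)) Polynomial.X =
      IsScalarTower.toAlgHom ℤ (Polynomial ℤ) (FractionRing (Polynomial ℤ)) Polynomial.X from rfl,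
    Polynomial.aeval_algHom_apply, Polynomial.aeval_X_left_apply]
  rfl

theorem phi_rel : phi q (rel q) = 0 := by
  have hX : algebraMap (Polynomial ℤ) (FractionRing (Polynomial ℤ)) Polynomial.X ≠ 0 :=
    fun h => Polynomial.X_ne_zero (IsFractionRing.injective _ _ (h.trans (map_zero _).symm))
  simp only [rel, phi, map_sub, map_mul, MvPolynomial.aeval_X, MvPolynomial.aeval_C, Matrix.cons_val_zero,
    Matrix.cons_val_one]
  rw [mul_div_cancel₀ _ hX, sub_eq_zero, IsScalarTower.algebraMap_apply ℤ (Polynomial ℤ) (FractionRing (Polynomial ℤ))]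
  rfl

theorem phi_eq_zero_of_mem {x : P₂} (hx : x ∈ Ideal.span {rel q}) : phi q x = 0 := by
  obtain ⟨c, rfl⟩ := Ideal.mem_span_singleton.1 hx
  rw [map_mul, phi_rel, zero_mul]

theorem aeval_divX {A : Type u} [CommRing A] [Algebra ℤ A] (a : A) (p : Polynomial ℤ) :
    Polynomial.aeval a p = a * Polynomial.aeval a p.divX + algebraMap ℤ A (p.coeff 0) := by
  conv_lhs => rw [← Polynomial.X_mul_divX_add p]
  rw [map_add, map_mul, Polynomial.aeval_X, Polynomial.aeval_C]

/-- normal form modulo the hyperbola -/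
theorem exists_normal_form (x : P₂) : ∃ u w : Polynomial ℤ,
    x - (Polynomial.aeval (X 0 : P₂) u + X 1 * Polynomial.aeval (X 1 : P₂) w) ∈ Ideal.span {rel q} := by
  let K : Ideal P₂ := Ideal.span {rel q}
  let nf : Polynomial ℤ → Polynomial ℤ → P₂ := fun u w =>
    Polynomial.aeval (X 0 : P₂) u + X 1 * Polynomial.aeval (X 1 : P₂) w
  show ∃ u w, x - nf u w ∈ K
  induction x using MvPolynomial.induction_on with
  | C a => exact ⟨Polynomial.C a, 0, by simp [nf]⟩
  | add x y hx hy =>
    obtain ⟨u, w, h⟩ := hx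
    obtain ⟨u', w', h'⟩ := hy
    refine ⟨u + u', w + w', ?_⟩
    convert add_mem h h' using 1
    simp only [nf, map_add]; ring
  | mul_X x i hx =>
    obtain ⟨u, w, h⟩ := hx
    fin_cases i
    · refine ⟨Polynomial.X * u + Polynomial.C (q * w.coeff 0), Polynomial.C q * w.divX, ?_⟩
      have hr : Polynomial.aeval (X 1 : P₂) w * rel q ∈ K := Ideal.mul_mem_left _ _ (Ideal.mem_span_singleton_self _)
      convert add_mem (K.mul_mem_right (X 0) h) hr using 1
      simp only [nf, rel, map_add, map_mul, Polynomial.aeval_X, Polynomial.aeval_C]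
      rw [aeval_divX (X 1 : P₂) w]
      simp only [MvPolynomial.algebraMap_eq]
      show x * X 0 - _ = _
      ring
    · refine ⟨Polynomial.C q * u.divX, Polynomial.X * w + Polynomial.C (u.coeff 0), ?_⟩
      have hr : Polynomial.aeval (X 0 : P₂) u.divX * rel q ∈ K := Ideal.mul_mem_left _ _ (Ideal.mem_span_singleton_self _)
      convert add_mem (K.mul_mem_right (X 1) h) hr using 1
      simp only [nf, rel, map_add, map_mul, Polynomial.aeval_X, Polynomial.aeval_C]
      rw [aeval_divX (X 0 : P₂) u]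
      simp only [MvPolynomial.algebraMap_eq]
      show x * X 1 - _ = _
      ring

/-- the polynomial obtained by clearing `V` -/
noncomputable def clearV (N : ℕ) (u w : Polynomial ℤ) : Polynomial ℤ :=
  Polynomial.X ^ N * u + ∑ j ∈ Finset.range N, Polynomial.C (w.coeff j * q ^ (j + 1)) * Polynomial.X ^ (N - 1 - j)

theorem clearV_spec (N : ℕ) (u w : Polynomial ℤ) (hw : ∀ j, N ≤ j → w.coeff j = 0) :
    (X 0 : P₂) ^ N * (Polynomial.aeval (X 0 : P₂) u + X 1 * Polynomial.aeval (X 1 : P₂) w) -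
      Polynomial.aeval (X 0 : P₂) (clearV q N u w) ∈ Ideal.span {rel q} := by
  have hwsum : w = ∑ j ∈ Finset.range N, Polynomial.C (w.coeff j) * Polynomial.X ^ j := by
    ext i
    simp only [Polynomial.finsetSum_coeff, Polynomial.coeff_C_mul, Polynomial.coeff_X_pow, mul_ite, mul_one, mul_zero,
      Finset.sum_ite_eq, Finset.mem_range]
    split_ifs with h
    · rfl
    · exact hw i (not_lt.1 h)
  have key : ∀ j < N, (X 0 : P₂) ^ N * X 1 ^ (j + 1) - C (q ^ (j + 1)) * X 0 ^ (N - 1 - j) ∈ Ideal.span {rel q} := by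
    intro j hj
    rw [show (X 0 : P₂) ^ N = X 0 ^ (j + 1) * X 0 ^ (N - 1 - j) by rw [← pow_add]; congr 1; omega,
      mul_comm ((X 0 : P₂) ^ (j + 1)), mul_assoc, ← mul_pow, map_pow, mul_comm (C q ^ (j + 1)), ← mul_sub]
    exact Ideal.mul_mem_left _ _ (Ideal.mem_span_singleton.2 (sub_dvd_pow_sub_pow _ _ _))
  rw [congrArg (Polynomial.aeval (X 1 : P₂)) hwsum]
  rw [clearV, map_add, map_sum, map_sum, mul_add, map_mul, map_pow, Polynomial.aeval_X, Finset.mul_sum,
    Finset.mul_sum, add_sub_add_left_eq_sub, ← Finset.sum_sub_distrib]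
  refine Ideal.sum_mem _ fun j hj => ?_
  simp only [map_mul, map_pow, Polynomial.aeval_X, Polynomial.aeval_C, MvPolynomial.algebraMap_eq]
  have := Ideal.mul_mem_left _ (C (w.coeff j)) (key j (Finset.mem_range.1 hj))
  convert this using 1
  rw [map_pow]; ring

theorem coeff_clearV_high (N : ℕ) (u w : Polynomial ℤ) (i : ℕ) : (clearV q N u w).coeff (N + i) = u.coeff i := by
  rw [clearV, Polynomial.coeff_add, add_comm N i, Polynomial.coeff_X_pow_mul, Polynomial.finsetSum_coeff]
  rw [Finset.sum_eq_zero fun j hj => ?_, add_zero]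
  rw [Polynomial.coeff_C_mul, Polynomial.coeff_X_pow, if_neg (by rw [Finset.mem_range] at hj; omega), mul_zero]

theorem coeff_clearV_low (N : ℕ) (u w : Polynomial ℤ) {j : ℕ} (hj : j < N) :
    (clearV q N u w).coeff (N - 1 - j) = w.coeff j * q ^ (j + 1) := by
  rw [clearV, Polynomial.coeff_add, Polynomial.coeff_X_pow_mul', if_neg (by omega), zero_add,
    Polynomial.finsetSum_coeff, Finset.sum_eq_single_of_mem j (Finset.mem_range.2 hj) fun k hk hkj => ?_]
  · rw [Polynomial.coeff_C_mul, Polynomial.coeff_X_pow, if_pos rfl, mul_one]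
  · rw [Polynomial.coeff_C_mul, Polynomial.coeff_X_pow, if_neg (by rw [Finset.mem_range] at hk; omega), mul_zero]

variable (hq : q ≠ 0)

include hq in
theorem eq_zero_of_clearV {N : ℕ} {u w : Polynomial ℤ} (hw : ∀ j, N ≤ j → w.coeff j = 0)
    (h : clearV q N u w = 0) : u = 0 ∧ w = 0 := by
  constructor
  · ext i; rw [← coeff_clearV_high q N u w i, h]; simp
  · ext j
    rcases lt_or_ge j N with hj | hj
    · have := coeff_clearV_low q N u w hj
      rw [h, Polynomial.coeff_zero] at this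
      simpa using (mul_eq_zero.1 this.symm).resolve_right (pow_ne_zero _ hq)
    · simpa using hw j hj

include hq in
theorem mem_span_of_phi_eq_zero {x : P₂} (hx : phi q x = 0) : x ∈ Ideal.span {rel q} := by
  obtain ⟨u, w, h⟩ := exists_normal_form q x
  have hw : ∀ j, w.natDegree + 1 ≤ j → w.coeff j = 0 := fun j hj => Polynomial.coeff_eq_zero_of_natDegree_lt hj
  have h2 := phi_eq_zero_of_mem q (clearV_spec q (w.natDegree + 1) u w hw)
  have h3 := phi_eq_zero_of_mem q h
  rw [map_sub, hx, zero_sub, neg_eq_zero] at h3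
  rw [map_sub, map_mul, h3, mul_zero, zero_sub, neg_eq_zero, phi_aeval] at h2
  obtain ⟨rfl, rfl⟩ := eq_zero_of_clearV q hq hw (IsFractionRing.injective _ _ (h2.trans (map_zero _).symm))
  simpa using h

variable {P : Polynomial ℤ} {D : ℕ} {h : P₂}
  (hh : (X 0 : P₂) ^ D * h - Polynomial.aeval (X 0 : P₂) P ∈ Ideal.span {rel q})
  (hPm : P.Monic) (hPd : P.natDegree = 2 * D)
  (hP0 : ∃ ε : ℤ, IsUnit ε ∧ P.coeff 0 = ε * q ^ D)

include hq hh hPm hPd hP0 in
/-- shape of `h` -/
theorem exists_h_form : ∃ (u w : Polynomial ℤ) (ε : ℤ), IsUnit ε ∧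
    h - (Polynomial.aeval (X 0 : P₂) u + X 1 * Polynomial.aeval (X 1 : P₂) w) ∈ Ideal.span {rel q} ∧
    u.coeff D = 1 ∧ (∀ i, D < i → u.coeff i = 0) ∧ (∀ j, D ≤ j → w.coeff j = 0) ∧
    (∀ j, j + 1 = D → w.coeff j = ε) := by
  obtain ⟨u, w, hn⟩ := exists_normal_form q h
  obtain ⟨ε, hε, hc0⟩ := hP0
  set N := w.natDegree + 1 + D with hN
  have hw : ∀ j, N ≤ j → w.coeff j = 0 := fun j hj => Polynomial.coeff_eq_zero_of_natDegree_lt (by omega)
  have h1 := phi_eq_zero_of_mem q (clearV_spec q N u w hw)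
  have h2 := phi_eq_zero_of_mem q hn
  have h3 := phi_eq_zero_of_mem q hh
  rw [map_sub, sub_eq_zero] at h1 h2 h3
  rw [map_mul, ← h2] at h1
  have hG : clearV q N u w = Polynomial.X ^ (N - D) * P := by
    refine IsFractionRing.injective (Polynomial ℤ) (FractionRing (Polynomial ℤ)) ?_
    rw [← phi_aeval q (clearV q N u w), ← h1, map_mul (algebraMap _ _), ← phi_aeval q P, ← h3, map_mul, ← mul_assoc,
      ← phi_aeval q (Polynomial.X ^ (N - D)), ← map_mul]
    rw [map_pow (Polynomial.aeval (X 0 : P₂)), Polynomial.aeval_X, ← map_mul, ← map_mul, ← pow_add,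
      Nat.sub_add_cancel (by omega)]
  have hu : ∀ i, u.coeff i = P.coeff (D + i) := fun i => by
    rw [← coeff_clearV_high q N u w i, hG, show N + i = D + i + (N - D) by omega, Polynomial.coeff_X_pow_mul]
  refine ⟨u, w, ε, hε, hn, ?_, fun i hi => ?_, fun j hj => ?_, fun j hj => ?_⟩
  · rw [hu, show D + D = P.natDegree by omega, hPm.coeff_natDegree]
  · rw [hu, Polynomial.coeff_eq_zero_of_natDegree_lt (by omega)]
  · rcases lt_or_ge j N with hjN | hjN
    · have := coeff_clearV_low q N u w hjN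
      rw [hG, Polynomial.coeff_X_pow_mul', if_neg (by omega)] at this
      exact (mul_eq_zero.1 this.symm).resolve_right (pow_ne_zero _ hq)
    · exact hw j hjN
  · have := coeff_clearV_low q N u w (show j < N by omega)
    rw [hG, show N - 1 - j = 0 + (N - D) by omega, Polynomial.coeff_X_pow_mul, hc0, ← hj] at this
    exact (mul_right_cancel₀ (pow_ne_zero _ hq) this).symm

include hq hh hPm hPd hP0 in
/-- every element has a reduced form modulo `(FV - q, h)` -/
theorem exists_reduced (x : P₂) : ∃ u w : Polynomial ℤ, (∀ i, D ≤ i → u.coeff i = 0) ∧ (∀ j, D ≤ j → w.coeff j = 0) ∧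
    x - (Polynomial.aeval (X 0 : P₂) u + X 1 * Polynomial.aeval (X 1 : P₂) w) ∈ Ideal.span {rel q, h} := by
  classical
  let J : Ideal P₂ := Ideal.span {rel q, h}
  have hKJ : Ideal.span {rel q} ≤ J := Ideal.span_mono (by simp)
  have hhJ : h ∈ J := Ideal.subset_span (by simp)
  obtain ⟨uh, wh, ε, hε, hn, huD, hu0, hw0, hwε⟩ := exists_h_form q hq hh hPm hPd hP0
  let nf : Polynomial ℤ → Polynomial ℤ → P₂ := fun u w =>
    Polynomial.aeval (X 0 : P₂) u + X 1 * Polynomial.aeval (X 1 : P₂) w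
  let G : Set P₂ := {y | ∃ u w : Polynomial ℤ, (∀ i, D ≤ i → u.coeff i = 0) ∧ (∀ j, D ≤ j → w.coeff j = 0) ∧
    y - nf u w ∈ J}
  have hadd : ∀ y ∈ G, ∀ z ∈ G, y + z ∈ G := by
    rintro y ⟨u, w, hu, hw, hy⟩ z ⟨u', w', hu', hw', hz⟩
    refine ⟨u + u', w + w', fun i hi => by simp [hu i hi, hu' i hi], fun i hi => by simp [hw i hi, hw' i hi], ?_⟩
    convert add_mem hy hz using 1
    simp only [nf, map_add]; ring
  have hsmul : ∀ (c : ℤ), ∀ y ∈ G, C c * y ∈ G := by
    rintro c y ⟨u, w, hu, hw, hy⟩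
    refine ⟨Polynomial.C c * u, Polynomial.C c * w, fun i hi => by simp [hu i hi], fun i hi => by simp [hw i hi], ?_⟩
    convert J.mul_mem_left (C c) hy using 1
    simp only [nf, map_mul, Polynomial.aeval_C, MvPolynomial.algebraMap_eq]; ring
  have hJ : ∀ y z, z ∈ G → y - z ∈ J → y ∈ G := by
    rintro y z ⟨u, w, hu, hw, hz⟩ hyz
    exact ⟨u, w, hu, hw, by convert add_mem hyz hz using 1; ring⟩
  have hJ0 : ∀ y ∈ J, y ∈ G := fun y hy => ⟨0, 0, by simp, by simp, by simpa [nf] using hy⟩
  have hlow : ∀ u w : Polynomial ℤ, (∀ i, D ≤ i → u.coeff i = 0) → (∀ j, D ≤ j → w.coeff j = 0) → nf u w ∈ G :=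
    fun u w hu hw => ⟨u, w, hu, hw, by simp⟩
  have hhn : nf uh wh ∈ J := by
    have := sub_mem hhJ (hKJ hn)
    convert this using 1
    simp only [nf]; ring
  have hF : (X 0 : P₂) ^ D ∈ G := by
    refine hJ _ (nf (-(uh - Polynomial.X ^ D)) (-wh)) (hlow _ _ (fun i hi => ?_) fun j hj => ?_) ?_
    · rcases eq_or_lt_of_le hi with rfl | hi'
      · simp [huD]
      · simp [hu0 i hi', Polynomial.coeff_X_pow, (Nat.ne_of_lt hi').symm]
    · simp [hw0 j hj]
    · convert hhn using 1
      simp only [nf, map_neg, map_sub, map_pow, Polynomial.aeval_X]; ring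
  have hone : (1 : P₂) ∈ G := by
    rcases Nat.eq_zero_or_pos D with hD | hD
    · rw [hD, pow_zero] at hF; exact hF
    · convert hlow 1 0 (fun i hi => by rw [Polynomial.coeff_one, if_neg (by omega)]) (by simp) using 1
      simp [nf]
  have hmX : ∀ u : Polynomial ℤ, (∀ i, D < i → u.coeff i = 0) → ∀ w : Polynomial ℤ, (∀ j, D ≤ j → w.coeff j = 0) →
      nf u w ∈ G := by
    intro u hu w hw
    refine hJ _ (nf (u - Polynomial.C (u.coeff D) * Polynomial.X ^ D) w + C (u.coeff D) * X 0 ^ D)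
      (hadd _ (hlow _ _ (fun i hi => ?_) hw) _ (hsmul _ _ hF)) ?_
    · rcases eq_or_lt_of_le hi with rfl | hi'
      · simp
      · simp [hu i hi', Polynomial.coeff_X_pow, (Nat.ne_of_lt hi').symm]
    · convert J.zero_mem using 1
      simp only [nf, map_sub, map_mul, map_pow, Polynomial.aeval_X, Polynomial.aeval_C, MvPolynomial.algebraMap_eq]
      ring
  have hV : D ≠ 0 → (X 1 : P₂) ^ (D + 1) ∈ G := by
    intro hD
    obtain ⟨d, rfl⟩ : ∃ d, D = d + 1 := ⟨D - 1, by omega⟩
    obtain ⟨v, rfl⟩ := hε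
    -- `V ^ (D+1) * ε` is `-V * (lower terms)` modulo `J`
    have hmain : nf (Polynomial.C q * uh.divX) (Polynomial.X * (wh - Polynomial.C (v : ℤ) * Polynomial.X ^ d) +
        Polynomial.C (uh.coeff 0)) ∈ G := by
      refine hlow _ _ (fun i hi => ?_) fun j hj => ?_
      · rw [Polynomial.coeff_C_mul, Polynomial.coeff_divX, hu0 (i + 1) (by omega), mul_zero]
      · obtain ⟨j', rfl⟩ : ∃ j', j = j' + 1 := ⟨j - 1, by omega⟩
        rw [Polynomial.coeff_add, Polynomial.coeff_X_mul, Polynomial.coeff_C, if_neg (by omega), add_zero,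
          Polynomial.coeff_sub, Polynomial.coeff_C_mul, Polynomial.coeff_X_pow]
        rcases eq_or_lt_of_le (show d ≤ j' by omega) with rfl | hj'
        · simp [hwε d rfl]
        · rw [if_neg (by omega), hw0 j' (by omega)]; simp
    have h2 := hsmul (-((v⁻¹ : ℤˣ) : ℤ)) _ hmain
    refine hJ _ _ h2 ?_
    have h3 := J.mul_mem_left (C ((v⁻¹ : ℤˣ) : ℤ) * X 1) hhn
    have h4 := J.mul_mem_left (C ((v⁻¹ : ℤˣ) : ℤ) * Polynomial.aeval (X 0 : P₂) uh.divX)
      (hKJ (Ideal.mem_span_singleton_self (rel q)))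
    have hv : (C ((v⁻¹ : ℤˣ) : ℤ) : P₂) * C (v : ℤ) = 1 := by rw [← C_mul, Units.inv_mul, C_1]
    convert sub_mem h3 h4 using 1
    simp only [nf, rel, map_add, map_sub, map_mul, map_pow, map_neg, Polynomial.aeval_X, Polynomial.aeval_C]
    rw [aeval_divX (X 0 : P₂) uh]
    simp only [MvPolynomial.algebraMap_eq]
    linear_combination (-(X 1 ^ (d + 1 + 1) : P₂)) * hv
  have hmul : ∀ i, ∀ y ∈ G, y * X i ∈ G := by
    intro i y ⟨u, w, hu, hw, hy⟩
    refine hJ _ (nf u w * X i) ?_ (by rw [← sub_mul]; exact J.mul_mem_right _ hy)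
    fin_cases i
    · refine hJ _ _ (hmX (Polynomial.X * u + Polynomial.C (q * w.coeff 0)) (fun i hi => ?_)
        (Polynomial.C q * w.divX) fun j hj => ?_) ?_
      · obtain ⟨i', rfl⟩ : ∃ i', i = i' + 1 := ⟨i - 1, by omega⟩
        rw [Polynomial.coeff_add, Polynomial.coeff_X_mul, Polynomial.coeff_C, if_neg (by omega), add_zero,
          hu i' (by omega)]
      · rw [Polynomial.coeff_C_mul, Polynomial.coeff_divX, hw (j + 1) (by omega), mul_zero]
      · convert hKJ (Ideal.mul_mem_left _ (Polynomial.aeval (X 1 : P₂) w) (Ideal.mem_span_singleton_self (rel q))) using 1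
        simp only [nf, rel, map_add, map_mul, Polynomial.aeval_X, Polynomial.aeval_C]
        rw [aeval_divX (X 1 : P₂) w]
        simp only [MvPolynomial.algebraMap_eq]
        show (_ : P₂) * X 0 - _ = _
        ring
    · rcases Nat.eq_zero_or_pos D with hD | hD
      · refine hJ0 _ (Ideal.mul_mem_right _ _ ?_)
        rw [show u = 0 from Polynomial.ext fun i => hu i (by omega), show w = 0 from Polynomial.ext fun i => hw i (by omega)]
        simp [nf]
      let w₁ := Polynomial.X * (w - Polynomial.C (w.coeff (D - 1)) * Polynomial.X ^ (D - 1)) + Polynomial.C (u.coeff 0)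
      refine hJ _ _ (hadd _ (hlow (Polynomial.C q * u.divX) w₁ (fun i hi => ?_) fun j hj => ?_) _
        (hsmul (w.coeff (D - 1)) _ (hV (by omega)))) ?_
      · rw [Polynomial.coeff_C_mul, Polynomial.coeff_divX, hu (i + 1) (by omega), mul_zero]
      · obtain ⟨j', rfl⟩ : ∃ j', j = j' + 1 := ⟨j - 1, by omega⟩
        rw [Polynomial.coeff_add, Polynomial.coeff_X_mul, Polynomial.coeff_C, if_neg (by omega), add_zero,
          Polynomial.coeff_sub, Polynomial.coeff_C_mul, Polynomial.coeff_X_pow]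
        split_ifs with h'
        · rw [h', mul_one, sub_self]
        · rw [hw j' (by omega)]; simp
      · obtain ⟨d, rfl⟩ : ∃ d, D = d + 1 := ⟨D - 1, by omega⟩
        convert hKJ (Ideal.mul_mem_left _ (Polynomial.aeval (X 0 : P₂) u.divX) (Ideal.mem_span_singleton_self (rel q))) using 1
        simp only [nf, w₁, rel, map_add, map_sub, map_mul, map_pow, Polynomial.aeval_X, Polynomial.aeval_C,
          Nat.add_sub_cancel]
        rw [aeval_divX (X 0 : P₂) u]
        simp only [MvPolynomial.algebraMap_eq]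
        show (_ : P₂) * X 1 - _ = _
        ring
  show x ∈ G
  induction x using MvPolynomial.induction_on with
  | C a => simpa using hsmul a 1 hone
  | add x y hx hy => exact hadd x hx y hy
  | mul_X x i hx => exact hmul i x hx

include hq hh hPm hPd hP0 in
/-- the kernel of evaluation at all the roots -/
theorem ker_eq_span {A : Type u} [CommRing A] [Algebra ℤ A] (f : P₂ →ₐ[ℤ] A) (hf : f (rel q) = 0)
    (hreg : ∀ a, f (X 0) * a = 0 → a = 0) (hfP : Polynomial.aeval (f (X 0)) P = 0)
    (hmin : ∀ Q : Polynomial ℤ, Polynomial.aeval (f (X 0)) Q = 0 → P ∣ Q) :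
    RingHom.ker f = Ideal.span {rel q, h} := by
  have hK : ∀ y ∈ Ideal.span {rel q}, f y = 0 := fun y hy => by
    obtain ⟨c, rfl⟩ := Ideal.mem_span_singleton.1 hy
    rw [map_mul, hf, zero_mul]
  have hpow : ∀ (n : ℕ) a, f (X 0) ^ n * a = 0 → a = 0 := fun n => by
    induction n with
    | zero => intro a ha; rwa [pow_zero, one_mul] at ha
    | succ n ih => intro a ha; rw [pow_succ', mul_assoc] at ha; exact ih a (hreg _ ha)
  have hfh : f h = 0 := by
    refine hpow D _ ?_
    have := hK _ hh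
    rw [map_sub, map_mul, map_pow, ← Polynomial.aeval_algHom_apply, hfP, sub_zero] at this
    exact this
  have hJ : ∀ y ∈ Ideal.span {rel q, h}, f y = 0 := fun y hy => by
    obtain ⟨a, b, rfl⟩ := Ideal.mem_span_pair.1 hy
    rw [map_add, map_mul, map_mul, hf, hfh, mul_zero, mul_zero, add_zero]
  refine le_antisymm (fun x hx => ?_) fun x hx => hJ x hx
  obtain ⟨u, w, hu, hw, hxm⟩ := exists_reduced q hq hh hPm hPd hP0 x
  have h1 := hJ _ hxm
  rw [map_sub, RingHom.mem_ker.1 hx, zero_sub, neg_eq_zero] at h1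
  have h2 := hK _ (clearV_spec q D u w hw)
  rw [map_sub, map_mul, h1, mul_zero, zero_sub, neg_eq_zero, ← Polynomial.aeval_algHom_apply] at h2
  have hQ : clearV q D u w = 0 := by
    obtain ⟨c, hc⟩ := hmin _ h2
    by_contra hne
    have hc0 : c ≠ 0 := fun h => hne (by rw [hc, h, mul_zero])
    have hd : (clearV q D u w).natDegree = 2 * D + c.natDegree := by
      rw [hc, hPm.natDegree_mul' hc0, hPd]
    have hlead := Polynomial.leadingCoeff_ne_zero.2 hne
    rw [Polynomial.leadingCoeff, hd, show 2 * D + c.natDegree = D + (D + c.natDegree) by ring, coeff_clearV_high] at hlead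
    exact hlead (hu _ (by omega))
  obtain ⟨rfl, rfl⟩ := eq_zero_of_clearV q hq hw hQ
  simpa using hxm

include hq hh hPm in
theorem isWeaklyRegular : RingTheory.Sequence.IsWeaklyRegular P₂ [rel q, h] := by
  have hrne : rel q ≠ 0 := fun h0 => hq (by simpa [rel] using congrArg constantCoeff h0)
  have hphih : phi q h ≠ 0 := fun h0 => by
    have := phi_eq_zero_of_mem q hh
    rw [map_sub, map_mul, h0, mul_zero, zero_sub, neg_eq_zero, phi_aeval] at this
    exact hPm.ne_zero (IsFractionRing.injective _ _ (this.trans (map_zero _).symm))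
  have key : ∀ y, y ∈ (rel q) • (⊤ : Submodule P₂ P₂) ↔ y ∈ Ideal.span {rel q} := fun y => by
    rw [← Submodule.ideal_span_singleton_smul, smul_eq_mul, Ideal.mul_top]
  rw [RingTheory.Sequence.isWeaklyRegular_cons_iff]
  refine ⟨fun a b hab => mul_left_cancel₀ hrne hab, ?_⟩
  rw [RingTheory.Sequence.isWeaklyRegular_cons_iff]
  refine ⟨fun a b hab => ?_, RingTheory.Sequence.IsWeaklyRegular.nil _ _⟩
  obtain ⟨a, rfl⟩ := Submodule.Quotient.mk_surjective _ a
  obtain ⟨b, rfl⟩ := Submodule.Quotient.mk_surjective _ b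
  simp only [← Submodule.Quotient.mk_smul] at hab
  rw [Submodule.Quotient.eq, key, smul_eq_mul, smul_eq_mul, ← mul_sub] at hab
  rw [Submodule.Quotient.eq, key]
  refine mem_span_of_phi_eq_zero q hq ?_
  have := phi_eq_zero_of_mem q hab
  rw [map_mul] at this
  exact (mul_eq_zero.1 this).resolve_left hphih

end Groth.L14.WeilCI
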