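import Groth.Agent.L14.WeilCI.Alg
import Groth.Agent.L22.AffineDim
import Groth.Agent.S0342
import Groth.Agent.L21.GorensteinLCI
import Mathlib.RingTheory.Polynomial.RationalRoot
import Mathlib.FieldTheory.Minpoly.IsIntegrallyClosed
import Mathlib.Analysis.Complex.Polynomial.Basic
import Mathlib.Algebra.Algebra.Subalgebra.Lattice
import Mathlib.RingTheory.Regular.Flat

/-! # Minimal central orders of Weil numbers -/

set_option autoImplicit false
set_option linter.style.haveILetI false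
set_option maxSynthPendingDepth 3

universe u

namespace Groth.L14.WeilCI

/-- A quotient of a regular ring by a regular sequence is Gorenstein. -/
theorem isGorensteinRing_of_surjective {P B : Type u} [CommRing P] [IsRegularRing P] [IsNoetherianRing P] [CommRing B]
    (f : P →+* B) (hf : Function.Surjective f) (rs : List P) (hrs : RingTheory.Sequence.IsWeaklyRegular P rs)
    (hker : RingHom.ker f = Ideal.ofList rs) : LocCoh.IsGorensteinRing B := by
  haveI : IsNoetherianRing B := isNoetherianRing_of_surjective P B f hf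
  refine { isGorensteinLocalRing_localization := ?_ }
  intro Q _
  let 𝔭 := Q.comap f
  haveI : 𝔭.IsPrime := Ideal.IsPrime.comap f
  let L := Localization.AtPrime 𝔭
  haveI : IsRegularLocalRing L := IsRegularRing.isRegularLocalRing_localization 𝔭
  haveI : LocCoh.IsGorensteinLocalRing L := Groth.Agent.S0342.result L
  have hmem : ∀ r ∈ rs, r ∈ 𝔭 := fun r hr => by
    have : r ∈ RingHom.ker f := hker ▸ Ideal.subset_span hr
    show f r ∈ Q
    rw [RingHom.mem_ker.1 this]; exact zero_mem _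
  have hG := Groth.L21.GorensteinLCI.gorenstein_quot_list L (rs.map (algebraMap P L)) (fun r hr => by
    obtain ⟨r, hr', rfl⟩ := List.mem_map.1 hr
    exact (IsLocalization.AtPrime.to_map_mem_maximal_iff L 𝔭 r).2 (hmem r hr'))
    (RingTheory.Sequence.IsWeaklyRegular.of_isLocalization L 𝔭.primeCompl hrs)
  let φ : L →+* Localization.AtPrime Q := Localization.localRingHom 𝔭 Q f rfl
  have hφs : ∀ (a : P) (s : 𝔭.primeCompl), φ (IsLocalization.mk' L a s) =
      IsLocalization.mk' (Localization.AtPrime Q) (f a) (⟨f s, s.2⟩ : Q.primeCompl) :=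
    fun a s => Localization.localRingHom_mk' 𝔭 Q f rfl a s
  have hsurj : Function.Surjective φ := fun z => by
    obtain ⟨a, ⟨s, hs⟩, rfl⟩ := IsLocalization.exists_mk'_eq Q.primeCompl z
    obtain ⟨a, rfl⟩ := hf a
    obtain ⟨s, rfl⟩ := hf s
    exact ⟨IsLocalization.mk' L a (⟨s, hs⟩ : 𝔭.primeCompl), hφs a ⟨s, hs⟩⟩
  have hk : RingHom.ker φ = Ideal.ofList (rs.map (algebraMap P L)) := by
    rw [← Ideal.map_ofList, ← hker]
    refine le_antisymm (fun z hz => ?_) (Ideal.map_le_iff_le_comap.2 fun x hx => ?_)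
    · obtain ⟨a, s, rfl⟩ := IsLocalization.exists_mk'_eq 𝔭.primeCompl z
      rw [RingHom.mem_ker, hφs, IsLocalization.mk'_eq_zero_iff] at hz
      obtain ⟨⟨t, ht⟩, hta⟩ := hz
      obtain ⟨t, rfl⟩ := hf t
      rw [IsLocalization.mk'_mem_map_algebraMap_iff 𝔭.primeCompl]
      exact ⟨t, ht, RingHom.mem_ker.2 ((map_mul f t a).trans hta)⟩
    · rw [Ideal.mem_comap, RingHom.mem_ker, show φ (algebraMap P L x) = algebraMap B _ (f x) from
        Localization.localRingHom_to_map 𝔭 Q f rfl x, RingHom.mem_ker.1 hx, map_zero]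
  exact Groth.L21.GorensteinAscend.isGorensteinLocalRing_of_ringEquiv
    ((Ideal.quotEquivOfEq hk.symm).trans (RingHom.quotientKerEquivOfSurjective hsurj)) hG

/-- the universe-lifted form -/
theorem isGorensteinRing_of_surjective' {P : Type} {B : Type u} [CommRing P] [IsRegularRing P] [IsNoetherianRing P]
    [CommRing B] (f : P →+* B) (hf : Function.Surjective f) (rs : List P)
    (hrs : RingTheory.Sequence.IsWeaklyRegular P rs) (hker : RingHom.ker f = Ideal.ofList rs) :
    LocCoh.IsGorensteinRing B := by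
  let e : P ≃+* ULift.{u} P := ULift.ringEquiv.symm
  haveI : IsRegularRing (ULift.{u} P) := IsRegularRing.of_ringEquiv e
  haveI : IsNoetherianRing (ULift.{u} P) := isNoetherianRing_of_ringEquiv P e
  refine isGorensteinRing_of_surjective (f.comp e.symm.toRingHom) (hf.comp e.symm.surjective) (rs.map e) ?_ ?_
  · exact (AddEquiv.isWeaklyRegular_congr (e := e.toAddEquiv)
      (List.forall₂_map_right_iff.2 (List.forall₂_same.2 fun r _ x => map_mul e r x))).1 hrs
  · rw [show rs.map e = rs.map e.toRingHom from rfl, ← Ideal.map_ofList, ← hker]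
    ext x
    rw [RingHom.mem_ker, show Ideal.map e.toRingHom (RingHom.ker f) = Ideal.comap e.symm.toRingHom (RingHom.ker f) from Ideal.map_comap_of_equiv e,
      Ideal.mem_comap, RingHom.mem_ker]
    rfl

open MvPolynomial

section Weil

variable (p e : ℕ) [Fact p.Prime] {ι : Type} [Fintype ι] {K : ι → Type u} [∀ i, Field (K i)] [∀ i, CharZero (K i)]
  (π : ∀ i, K i) (hint : ∀ i, IsIntegral ℤ (π i))
  (hweil : ∀ i, ∀ z ∈ (minpoly ℤ (π i)).aroots ℂ, ‖z‖ = Real.sqrt ((p : ℝ) ^ e))
  (hinj : ∀ i j, minpoly ℤ (π i) = minpoly ℤ (π j) → i = j)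
  (D : ℕ) (hD : ∑ i, (minpoly ℤ (π i)).natDegree = 2 * D)

omit [Fact p.Prime] in
include hint hD in
theorem prod_monic_natDegree : (∏ i, minpoly ℤ (π i)).Monic ∧ (∏ i, minpoly ℤ (π i)).natDegree = 2 * D :=
  ⟨Polynomial.monic_prod_of_monic _ _ fun i _ => minpoly.monic (hint i), by
    rw [Polynomial.natDegree_prod_of_monic _ _ fun i _ => minpoly.monic (hint i)]; exact hD⟩

omit [Fact p.Prime] in
include hint hweil in
theorem abs_coeff_zero (i : ι) :
    |((minpoly ℤ (π i)).coeff 0 : ℝ)| = Real.sqrt ((p : ℝ) ^ e) ^ (minpoly ℤ (π i)).natDegree := by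
  set Q := minpoly ℤ (π i)
  have hQ : (Q.map (algebraMap ℤ ℂ)).Monic := (minpoly.monic (hint i)).map _
  have hs : (Q.map (algebraMap ℤ ℂ)).Splits := IsAlgClosed.splits _
  have h2 := congrArg (fun z : ℂ => ‖z‖) (Polynomial.Splits.coeff_zero_eq_prod_roots_of_monic hs hQ)
  simp only [Polynomial.coeff_map, norm_mul, norm_pow, norm_neg, norm_one, one_pow, one_mul] at h2
  rw [show (algebraMap ℤ ℂ (Q.coeff 0)) = ((Q.coeff 0 : ℝ) : ℂ) by simp, Complex.norm_real, Real.norm_eq_abs] at h2
  rw [h2]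
  have hn : ‖(Q.map (algebraMap ℤ ℂ)).roots.prod‖ = ((Q.map (algebraMap ℤ ℂ)).roots.map fun z => ‖z‖).prod :=
    map_multiset_prod (normHom : ℂ →*₀ ℝ) _
  rw [hn, show (Q.map (algebraMap ℤ ℂ)).roots.map (fun z => ‖z‖) =
      Multiset.replicate (Q.map (algebraMap ℤ ℂ)).roots.card (Real.sqrt ((p : ℝ) ^ e)) from
    Multiset.eq_replicate.2 ⟨Multiset.card_map _ _, fun b hb => by
      obtain ⟨z, hz, rfl⟩ := Multiset.mem_map.1 hb
      exact hweil i z hz⟩, Multiset.prod_replicate, ← hs.natDegree_eq_card_roots,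
    (minpoly.monic (hint i)).natDegree_map]

include hint hweil in
theorem pi_ne_zero (i : ι) : π i ≠ 0 := fun h0 => by
  have h1 : (minpoly ℤ (π i)).coeff 0 = 0 := by
    have := minpoly.aeval ℤ (π i)
    generalize minpoly ℤ (π i) = Q at this ⊢
    rw [h0, ← Polynomial.coeff_zero_eq_aeval_zero'] at this
    exact_mod_cast (map_eq_zero_iff _ (FaithfulSMul.algebraMap_injective ℤ (K i))).1 this
  have h2 := abs_coeff_zero p e π hint hweil i
  rw [h1] at h2
  simp only [Int.cast_zero, abs_zero] at h2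
  exact absurd h2.symm (pow_ne_zero _ (Real.sqrt_ne_zero'.2 (pow_pos (by exact_mod_cast (Fact.out : p.Prime).pos) _)))

omit [Fact p.Prime] in
include hint hweil hD in
theorem coeff_zero_prod : ∃ ε : ℤ, IsUnit ε ∧ (∏ i, minpoly ℤ (π i)).coeff 0 = ε * ((p : ℤ) ^ e) ^ D := by
  set P := ∏ i, minpoly ℤ (π i) with hP_def
  have h1 : |(P.coeff 0 : ℝ)| = ((((p : ℤ) ^ e) ^ D : ℤ) : ℝ) := by
    rw [hP_def, Polynomial.coeff_zero_prod, Int.cast_prod, Finset.abs_prod,
      Finset.prod_congr rfl fun i _ => abs_coeff_zero p e π hint hweil i, Finset.prod_pow_eq_pow_sum, hD, pow_mul,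
      Real.sq_sqrt (pow_nonneg (Nat.cast_nonneg _) _)]
    simp
  have h2 : |P.coeff 0| = ((p : ℤ) ^ e) ^ D := by exact_mod_cast h1
  rcases (abs_eq (h2 ▸ abs_nonneg (P.coeff 0))).1 h2 with h3 | h3
  · exact ⟨1, isUnit_one, by rw [h3, one_mul]⟩
  · exact ⟨-1, isUnit_one.neg, by rw [h3, neg_one_mul]⟩

omit [Fact p.Prime] in
include hint hinj in
theorem prod_dvd {Q : Polynomial ℤ} (h : ∀ i, minpoly ℤ (π i) ∣ Q) : (∏ i, minpoly ℤ (π i)) ∣ Q := by
  refine Finset.prod_dvd_of_isRelPrime (fun i _ j _ hij => ?_) fun i _ => h i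
  refine ((minpoly.prime_of_isIntegrallyClosed (hint i)).irreducible.isRelPrime_iff_not_dvd).2 fun hdvd => ?_
  exact hij (hinj i j (Polynomial.eq_of_monic_of_associated (minpoly.monic (hint i)) (minpoly.monic (hint j))
    ((minpoly.prime_of_isIntegrallyClosed (hint i)).associated_of_dvd
      (minpoly.prime_of_isIntegrallyClosed (hint j)) hdvd)))

include hint hweil hinj hD in
/-- the functional equation of a product of Weil polynomials -/
theorem coeff_symm {k : ℕ} (hk : k ≤ 2 * D) :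
    (∏ i, minpoly ℤ (π i)).coeff k * ((p : ℤ) ^ e) ^ k =
      (∏ i, minpoly ℤ (π i)).coeff 0 * (∏ i, minpoly ℤ (π i)).coeff (2 * D - k) := by
  obtain ⟨hPm, hPd⟩ := prod_monic_natDegree π hint D hD
  set P := ∏ i, minpoly ℤ (π i)
  set q : ℤ := (p : ℤ) ^ e
  let Q : Polynomial ℤ := ∑ k ∈ Finset.range (2 * D + 1), Polynomial.C (P.coeff k * q ^ k) * Polynomial.X ^ (2 * D - k)
  have hQc : ∀ k ≤ 2 * D, Q.coeff (2 * D - k) = P.coeff k * q ^ k := fun k hk => by
    rw [Polynomial.finsetSum_coeff, Finset.sum_eq_single_of_mem k (Finset.mem_range.2 (by omega)) fun l hl hne => ?_]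
    · rw [Polynomial.coeff_C_mul, Polynomial.coeff_X_pow, if_pos rfl, mul_one]
    · rw [Polynomial.coeff_C_mul, Polynomial.coeff_X_pow,
        if_neg (by rw [Finset.mem_range] at hl; omega), mul_zero]
  have hQd : Q.natDegree ≤ 2 * D := Polynomial.natDegree_sum_le_of_forall_le _ _ fun k _ =>
    (Polynomial.natDegree_C_mul_X_pow_le _ _).trans (Nat.sub_le _ _)
  have hdvd : P ∣ Q := by
    refine prod_dvd π hint hinj fun i => ?_
    set M := minpoly ℤ (π i)
    have hMm : M.Monic := minpoly.monic (hint i)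
    have hMd : (M.map (algebraMap ℤ ℂ)).degree ≠ 0 := by
      rw [hMm.degree_map, Polynomial.degree_eq_natDegree hMm.ne_zero]
      exact_mod_cast (minpoly.natDegree_pos (hint i)).ne'
    obtain ⟨z, hz⟩ := IsAlgClosed.exists_root (M.map (algebraMap ℤ ℂ)) hMd
    have hz' : Polynomial.aeval z M = 0 := by rwa [Polynomial.IsRoot.def, Polynomial.eval_map_algebraMap] at hz
    have hzn : ‖z‖ = Real.sqrt ((p : ℝ) ^ e) := hweil i z (Polynomial.mem_aroots.2 ⟨hMm.ne_zero, hz'⟩)
    have hz0 : z ≠ 0 := fun h => by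
      rw [h, norm_zero] at hzn
      exact (Real.sqrt_ne_zero'.2 (pow_pos (by exact_mod_cast (Fact.out : p.Prime).pos) _)) hzn.symm
    let w := (starRingEnd ℂ) z
    have hzw : z * w = (q : ℂ) := by
      rw [Complex.mul_conj, Complex.normSq_eq_norm_sq, hzn, Real.sq_sqrt (pow_nonneg (Nat.cast_nonneg _) _)]
      simp [q]
    have hw : Polynomial.aeval w P = 0 := by
      rw [map_prod]
      refine Finset.prod_eq_zero (Finset.mem_univ i) ?_
      show Polynomial.aeval ((starRingEnd ℂ).toIntAlgHom z) M = 0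
      rw [Polynomial.aeval_algHom_apply, hz', map_zero]
    have hQz : Polynomial.aeval z Q = 0 := by
      have : z ^ (2 * D) * Polynomial.aeval w P = 0 := by rw [hw, mul_zero]
      rw [Polynomial.aeval_eq_sum_range' (show P.natDegree < 2 * D + 1 by omega), Finset.mul_sum] at this
      rw [← this, map_sum]
      refine Finset.sum_congr rfl fun k hk => ?_
      rw [Finset.mem_range] at hk
      rw [map_mul, Polynomial.aeval_C, map_pow, Polynomial.aeval_X, zsmul_eq_mul, map_mul, map_pow,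
        algebraMap_int_eq, eq_intCast, eq_intCast, ← hzw,
        show z ^ (2 * D) = z ^ (2 * D - k) * z ^ k by rw [← pow_add, Nat.sub_add_cancel (by omega)]]
      ring
    have hMeq : minpoly ℤ z = M := by
      have hzi : IsIntegral ℤ z := ⟨M, hMm, hz'⟩
      exact Polynomial.eq_of_monic_of_associated (minpoly.monic hzi) hMm
        ((minpoly.prime_of_isIntegrallyClosed hzi).irreducible.associated_of_dvd
          (minpoly.prime_of_isIntegrallyClosed (hint i)).irreducible (minpoly.isIntegrallyClosed_dvd hzi hz'))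
    rw [← hMeq]
    exact minpoly.isIntegrallyClosed_dvd ⟨M, hMm, hz'⟩ hQz
  obtain ⟨c, hc⟩ := hdvd
  have hcC : c = Polynomial.C (c.coeff 0) := by
    refine Polynomial.eq_C_of_natDegree_eq_zero ?_
    by_contra hne
    have hc0 : c ≠ 0 := fun h => hne (by rw [h, Polynomial.natDegree_zero])
    have := congrArg Polynomial.natDegree hc
    rw [hPm.natDegree_mul' hc0] at this
    omega
  have hP0 : c.coeff 0 = P.coeff 0 := by
    have h1 := hQc 0 (Nat.zero_le _)
    rw [hc, hcC, Polynomial.coeff_mul_C, pow_zero, mul_one, Nat.sub_zero, ← hPd, hPm.coeff_natDegree, one_mul] at h1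
    exact h1
  rw [← hQc k hk, hc, hcC, Polynomial.coeff_mul_C, hP0, mul_comm]

include hint hweil hinj hD in
theorem exists_h : ∃ h : MvPolynomial (Fin 2) ℤ,
    X 0 ^ D * h - Polynomial.aeval (X 0 : MvPolynomial (Fin 2) ℤ) (∏ i, minpoly ℤ (π i)) ∈
      Ideal.span {rel ((p : ℤ) ^ e)} := by
  obtain ⟨hPm, hPd⟩ := prod_monic_natDegree π hint D hD
  obtain ⟨ε, -, hε⟩ := coeff_zero_prod p e π hint hweil D hD
  set P := ∏ i, minpoly ℤ (π i)
  set q : ℤ := (p : ℤ) ^ e
  have hq : q ≠ 0 := pow_ne_zero _ (by exact_mod_cast (Fact.out : p.Prime).ne_zero)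
  let u : Polynomial ℤ := ∑ i ∈ Finset.range (D + 1), Polynomial.monomial i (P.coeff (D + i))
  let w : Polynomial ℤ := ∑ j ∈ Finset.range D, Polynomial.monomial j (ε * P.coeff (D + j + 1))
  have hu : ∀ i, u.coeff i = P.coeff (D + i) := fun i => by
    simp only [u, Polynomial.finsetSum_coeff, Polynomial.coeff_monomial, Finset.sum_ite_eq', Finset.mem_range]
    split_ifs with h
    · rfl
    · rw [Polynomial.coeff_eq_zero_of_natDegree_lt (by omega)]
  have hw : ∀ j, w.coeff j = if j < D then ε * P.coeff (D + j + 1) else 0 := fun j => by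
    simp only [w, Polynomial.finsetSum_coeff, Polynomial.coeff_monomial, Finset.sum_ite_eq', Finset.mem_range]
  refine ⟨Polynomial.aeval (X 0 : MvPolynomial (Fin 2) ℤ) u + X 1 * Polynomial.aeval (X 1 : MvPolynomial (Fin 2) ℤ) w, ?_⟩
  have hG : clearV q D u w = P := by
    ext n
    rcases le_or_gt D n with hn | hn
    · obtain ⟨i, rfl⟩ : ∃ i, n = D + i := ⟨n - D, by omega⟩
      rw [coeff_clearV_high, hu]
    · obtain ⟨j, hj, rfl⟩ : ∃ j, j < D ∧ n = D - 1 - j := ⟨D - 1 - n, by omega, by omega⟩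
      rw [coeff_clearV_low q D u w hj, hw, if_pos hj]
      refine mul_right_cancel₀ (pow_ne_zero (D - 1 - j) hq) ?_
      rw [coeff_symm p e π hint hweil hinj D hD (by omega), hε, mul_assoc, ← pow_add,
        show 2 * D - (D - 1 - j) = D + j + 1 by omega, show j + 1 + (D - 1 - j) = D by omega]
      ring
  have := clearV_spec q D u w fun j hj => by rw [hw, if_neg (not_lt.2 hj)]
  rwa [hG] at this

/-- evaluation at a family of Weil numbers -/
noncomputable def evalW : MvPolynomial (Fin 2) ℤ →ₐ[ℤ] ((i : ι) → K i) :=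
  MvPolynomial.aeval ![fun i => π i, fun i => ((p : K i) ^ e) / π i]

omit [Fact p.Prime] [∀ i, CharZero (K i)] in
theorem evalW_X0 : evalW p e π (X 0) = fun i => π i := by simp [evalW]

omit [∀ i, CharZero (K i)] in
theorem evalW_aeval (G : Polynomial ℤ) (i : ι) :
    evalW p e π (Polynomial.aeval (X 0 : MvPolynomial (Fin 2) ℤ) G) i = Polynomial.aeval (π i) G := by
  rw [← Polynomial.aeval_algHom_apply, evalW_X0, Polynomial.aeval_pi_apply]

include hint hweil in
theorem evalW_rel : evalW p e π (rel ((p : ℤ) ^ e)) = 0 := by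
  funext i
  simp [evalW, rel, mul_div_cancel₀ _ (pi_ne_zero p e π hint hweil i)]

include hint hweil hinj hD in
theorem exists_ker : ∃ h : MvPolynomial (Fin 2) ℤ,
    RingHom.ker (evalW p e π) = Ideal.span {rel ((p : ℤ) ^ e), h} ∧
    RingTheory.Sequence.IsWeaklyRegular (MvPolynomial (Fin 2) ℤ) [rel ((p : ℤ) ^ e), h] ∧
    (∀ x, ∃ u w : Polynomial ℤ, (∀ i, D ≤ i → u.coeff i = 0) ∧ (∀ j, D ≤ j → w.coeff j = 0) ∧
      evalW p e π x = evalW p e π (Polynomial.aeval (X 0 : MvPolynomial (Fin 2) ℤ) u +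
        X 1 * Polynomial.aeval (X 1 : MvPolynomial (Fin 2) ℤ) w)) ∧
    ∀ u w : Polynomial ℤ, (∀ i, D ≤ i → u.coeff i = 0) → (∀ j, D ≤ j → w.coeff j = 0) →
      evalW p e π (Polynomial.aeval (X 0 : MvPolynomial (Fin 2) ℤ) u +
        X 1 * Polynomial.aeval (X 1 : MvPolynomial (Fin 2) ℤ) w) = 0 → u = 0 ∧ w = 0 := by
  obtain ⟨hPm, hPd⟩ := prod_monic_natDegree π hint D hD
  have hP0 := coeff_zero_prod p e π hint hweil D hD
  obtain ⟨h, hh⟩ := exists_h p e π hint hweil hinj D hD
  have hq : ((p : ℤ) ^ e) ≠ 0 := pow_ne_zero _ (by exact_mod_cast (Fact.out : p.Prime).ne_zero)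
  have hmin : ∀ Q : Polynomial ℤ, Polynomial.aeval (evalW p e π (X 0)) Q = 0 → (∏ i, minpoly ℤ (π i)) ∣ Q := by
    intro Q hQ
    refine prod_dvd π hint hinj fun i => minpoly.isIntegrallyClosed_dvd (hint i) ?_
    have := congrFun hQ i
    rwa [evalW_X0, Polynomial.aeval_pi_apply] at this
  have hk : RingHom.ker (evalW p e π) = Ideal.span {rel ((p : ℤ) ^ e), h} := by
    refine ker_eq_span _ hq hh hPm hPd hP0 _ (evalW_rel p e π hint hweil) (fun a ha => ?_) ?_ hmin
    · funext i
      have h1 := congrFun ha i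
      rw [evalW_X0] at h1
      exact (mul_eq_zero.1 h1).resolve_left (pi_ne_zero p e π hint hweil i)
    · funext i
      rw [evalW_X0, Polynomial.aeval_pi_apply]
      show Polynomial.aeval (π i) (∏ i, minpoly ℤ (π i)) = 0
      rw [map_prod]
      exact Finset.prod_eq_zero (Finset.mem_univ i) (minpoly.aeval ℤ (π i))
  refine ⟨h, hk, isWeaklyRegular _ hq hh hPm, fun x => ?_, fun u w hu hw h0 => ?_⟩
  · obtain ⟨u, w, hu, hw, hx⟩ := exists_reduced _ hq hh hPm hPd hP0 x
    rw [← hk, RingHom.mem_ker, map_sub, sub_eq_zero] at hx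
    exact ⟨u, w, hu, hw, hx⟩
  · have h2 := clearV_spec ((p : ℤ) ^ e) D u w hw
    obtain ⟨c, hc⟩ := Ideal.mem_span_singleton.1 h2
    have h3 := congrArg (evalW p e π) hc
    rw [map_sub, map_mul, h0, mul_zero, zero_sub, map_mul, evalW_rel p e π hint hweil, zero_mul, neg_eq_zero,
      ← Polynomial.aeval_algHom_apply] at h3
    refine eq_zero_of_clearV _ hq hw ?_
    obtain ⟨c, hc⟩ := hmin _ h3
    by_contra hne
    have hc0 : c ≠ 0 := fun h => hne (by rw [hc, h, mul_zero])
    have hlead := Polynomial.leadingCoeff_ne_zero.2 hne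
    rw [Polynomial.leadingCoeff, hc, hPm.natDegree_mul' hc0, hPd, ← hc,
      show 2 * D + c.natDegree = D + (D + c.natDegree) by ring, coeff_clearV_high] at hlead
    exact hlead (hu _ (by omega))

end Weil

end Groth.L14.WeilCI
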